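import Cfsg.Agent.H70.SameFix.Basic

/-!
If the involutions fix at most one point, then only the identity fixes three points.
-/

set_option autoImplicit false

namespace Cfsg.Agent.H70.SameFix

open MulAction

variable {G Ω : Type*} [Group G] [Finite G] [MulAction G Ω] [Finite Ω] [FaithfulSMul G Ω]
  {i : ℕ} (S : Sys G Ω i)

include S

omit [Finite G] [FaithfulSMul G Ω] in
/-- An element fixing two points commutes with no involution. -/
theorem Sys.not_commute (hi : i ≤ 1) {a b : Ω} (hab : a ≠ b) {x u : G} (hx : x ≠ 1)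
    (hxa : x • a = a) (hxb : x • b = b) (hu : orderOf u = 2) (hc : Commute x u) : False := by
  have h : (fixedBy Ω x).ncard = i := S.cent u hu x hc hx
  have : 1 < (fixedBy Ω x).ncard :=
    (Set.one_lt_ncard (Set.toFinite _)).2 ⟨a, hxa, b, hxb, hab⟩
  omega

omit [Finite G] [FaithfulSMul G Ω] in
theorem Sys.sq_ne_one (hi : i ≤ 1) {a b : Ω} (hab : a ≠ b) {x : G} (hx : x ≠ 1)
    (hxa : x • a = a) (hxb : x • b = b) : x * x ≠ 1 := fun h =>
  S.not_commute hi hab hx hxa hxb (orderOf_of_sq h hx) (Commute.refl x)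

/-- The points fixed by a set of elements. -/
def fixSet (Ω : Type*) [MulAction G Ω] (R : Set G) : Set Ω := {p | ∀ r ∈ R, r • p = p}

set_option maxHeartbeats 800000 in
theorem Sys.eq_one_of_three (hi : i ≤ 1) {g : G} {p1 p2 p3 : Ω} (h12 : p1 ≠ p2) (h23 : p2 ≠ p3)
    (h13 : p1 ≠ p3) (h1 : g • p1 = p1) (h2 : g • p2 = p2) (h3 : g • p3 = p3) : g = 1 := by
  classical
  by_contra hg
  have := Fintype.ofFinite G
  have := Fintype.ofFinite Ω
  let cand : Set (Set G) := {R | (∃ r ∈ R, r ≠ 1) ∧ 3 ≤ (fixSet Ω R).ncard}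
  obtain ⟨R, ⟨⟨r0, hr0, hr01⟩, hR3⟩, hmin⟩ := Set.exists_min_image cand
    (fun R => (fixSet Ω R).ncard) (Set.toFinite _) ⟨{g}, ⟨g, rfl, hg⟩, by
      calc 3 = ({p1, p2, p3} : Set Ω).ncard :=
            (Set.ncard_eq_three.2 ⟨p1, p2, p3, h12, h13, h23, rfl⟩).symm
        _ ≤ _ := Set.ncard_le_ncard (by
            rintro p (rfl | rfl | rfl) r (rfl : r = g) <;> assumption) (Set.toFinite _)⟩
  set F := fixSet Ω R with hF
  obtain ⟨e1, he1, e2, he2, e3, he3, h_12, h_13, h_23⟩ :=
    (Set.two_lt_ncard (Set.toFinite F)).1 (show 2 < F.ncard by omega)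
  have hr0F : ∀ c ∈ F, r0 • c = c := fun c hc => hc r0 hr0
  set C : Subgroup G := Subgroup.centralizer R with hC
  -- elements of `C` preserve `F`
  have hCF : ∀ y ∈ C, ∀ c ∈ F, y • c ∈ F := fun y hy c hc r hr => by
    rw [← mul_smul, Subgroup.mem_centralizer_iff.1 hy r hr, mul_smul, hc r hr]
  -- two-point stabilisers inside `F` lie in `C`
  have hDC : ∀ c ∈ F, ∀ c' ∈ F, c ≠ c' → ∀ y : G, y • c = c → y • c' = c' → y ∈ C := by
    intro c hc c' hc' hne y hy hy'
    exact Subgroup.mem_centralizer_iff.2 fun r hr =>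
      (S.two_pt_comm hne (hc r hr) (hc' r hr) hy hy').eq
  have hodd : ∀ y ∈ C, orderOf y ≠ 2 := fun y hy hy2 =>
    S.not_commute hi h_12 hr01 (hr0F _ he1) (hr0F _ he2) hy2
      (Subgroup.mem_centralizer_iff.1 hy r0 hr0)
  -- elements interchanging two points of `F` invert `R`
  have hsw : ∀ c ∈ F, ∀ c' ∈ F, c ≠ c' → ∀ w : G, w • c = c' → w • c' = c →
      w * w = 1 ∧ ∀ r ∈ R, w * r * w = r⁻¹ := fun c hc c' hc' hne w hw hw' =>
    ⟨S.invol w c (by rw [hw]; exact hne.symm) (by rw [hw, hw']),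
      fun r hr => S.inverts hne hw hw' (hc r hr) (hc' r hr)⟩
  have hprod : ∀ u v : G, u * u = 1 → v * v = 1 → (∀ r ∈ R, u * r * u = r⁻¹) →
      (∀ r ∈ R, v * r * v = r⁻¹) → u * v ∈ C := by
    intro u v hu hv hur hvr
    refine Subgroup.mem_centralizer_iff.2 fun r hr => ?_
    have h1 := congrArg (·⁻¹) (hur r hr)
    simp only [mul_inv_rev, inv_eq_of_mul_eq_one_right hu, inv_inv] at h1
    calc r * (u * v) = u * (r⁻¹ * u) * (u * v) := by rw [h1]
      _ = u * (r⁻¹ * (u * u) * v) := by group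
      _ = u * (v * r * v * v) := by rw [hu, mul_one, ← hvr r hr]
      _ = u * v * r := by rw [mul_assoc (v * r), hv, mul_one, mul_assoc]
  have htrans : ∀ c ∈ F, ∀ c' ∈ F, ∃ y ∈ C, y • c = c' := by
    intro c hc c' hc'
    rcases eq_or_ne c c' with rfl | hne
    · exact ⟨1, C.one_mem, one_smul _ _⟩
    obtain ⟨m, hm, hmc, hmc'⟩ : ∃ m ∈ F, m ≠ c ∧ m ≠ c' := by
      by_contra h
      push Not at h
      have : F ⊆ {c, c'} := fun m hm => by
        by_cases hmc : m = c
        · exact Or.inl hmc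
        · exact Or.inr (h m hm hmc)
      have := Set.ncard_le_ncard this (Set.toFinite _)
      rw [Set.ncard_pair hne] at this
      omega
    obtain ⟨u, -, huc, hum⟩ := S.exists_swap hmc.symm
    obtain ⟨v, -, hvm, hvc⟩ := S.exists_swap hmc'
    obtain ⟨hu2, hur⟩ := hsw c hc m hm hmc.symm u huc hum
    obtain ⟨hv2, hvr⟩ := hsw m hm c' hc' hmc' v hvm hvc
    exact ⟨v * u, hprod v u hv2 hu2 hvr hur, by rw [mul_smul, huc, hvm]⟩
  -- `F` has odd size
  set f := F.ncard with hf
  have hfodd : Odd f := by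
    have horb : orbit C e1 = F := by
      ext c
      constructor
      · rintro ⟨y, rfl⟩; exact hCF _ y.2 _ he1
      · intro hc
        obtain ⟨y, hy, h⟩ := htrans e1 he1 c hc
        exact ⟨⟨y, hy⟩, h⟩
    have hCodd : Odd (Nat.card C) := by
      rw [← Nat.not_even_iff_odd]
      intro he
      have : Fact (Nat.Prime 2) := ⟨Nat.prime_two⟩
      obtain ⟨⟨y, hy⟩, hy2⟩ := exists_prime_orderOf_dvd_card' 2 (even_iff_two_dvd.1 he)
      rw [← Subgroup.orderOf_coe] at hy2
      exact hodd y hy hy2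
    have hdvd : f ∣ Nat.card C := by
      rw [hf, ← horb, ← index_stabilizer]
      exact Subgroup.index_dvd_card _
    exact Odd.of_dvd_nat hCodd hdvd
  -- an involution inverting `R` and fixing a point of `F`
  obtain ⟨w, hw2, hwab, hwba⟩ := S.exists_swap h_12
  obtain ⟨-, hwR⟩ := hsw e1 he1 e2 he2 h_12 w hwab hwba
  have hw1 : w ≠ 1 := fun h => h_12 (by rw [← hwab, h, one_smul])
  have hwF : ∀ c ∈ F, w • c ∈ F := fun c hc r hr => by
    have hinv : r⁻¹ • c = c := inv_smul_eq_iff.2 (hc r hr).symm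
    have hsm : r * w = w * r⁻¹ := by
      calc r * w = w * w * r * w := by rw [hw2, one_mul]
        _ = w * (w * r * w) := by group
        _ = w * r⁻¹ := by rw [hwR r hr]
    rw [← mul_smul, hsm, mul_smul, hinv]
  obtain ⟨a, ha, hwa⟩ : ∃ a ∈ F, w • a = a := by
    by_contra h
    push Not at h
    let π : Equiv.Perm ↥F :=
      { toFun := fun c => ⟨w • (c : Ω), hwF c c.2⟩
        invFun := fun c => ⟨w • (c : Ω), hwF c c.2⟩
        left_inv := fun c => Subtype.ext (smul_smul_self hw2 _)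
        right_inv := fun c => Subtype.ext (smul_smul_self hw2 _) }
    have : Fact (Nat.Prime 2) := ⟨Nat.prime_two⟩
    have hmod := Equiv.Perm.exists_fixed_point_of_prime (p := 2) (n := 1) (σ := π)
      (by rw [← Nat.card_eq_fintype_card, Nat.card_coe_set_eq, ← hf]
          exact Nat.two_dvd_ne_zero.2 (Nat.odd_iff.1 hfodd))
      (Equiv.ext fun c => Subtype.ext (by
        rw [pow_one, pow_two]; exact smul_smul_self hw2 _))
    obtain ⟨c, hc⟩ := hmod
    exact h c c.2 (congrArg Subtype.val hc)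
  have hw2o : orderOf w = 2 := orderOf_of_sq hw2 hw1
  have hwone : fixedBy Ω w = {a} := by
    refine (Set.eq_of_subset_of_ncard_le (t := fixedBy Ω w)
      (Set.singleton_subset_iff.2 hwa) ?_ (Set.toFinite _)).symm
    rw [Set.ncard_singleton]
    exact (S.cent w hw2o w (Commute.refl w) hw1).le.trans hi
  have hi1 : i = 1 := by
    rw [← S.cent w hw2o w (Commute.refl w) hw1, fixNum, hwone, Set.ncard_singleton]
  -- a second point of `F`
  obtain ⟨b, hb, hba⟩ : ∃ b ∈ F, b ≠ a :=
    Set.exists_ne_of_one_lt_ncard (show 1 < F.ncard by omega) a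
  set D := stabilizer G a ⊓ stabilizer G b with hD
  set d := Nat.card ↥D with hd
  set n := Nat.card Ω with hn
  have hG : Nat.card G = n * (n - 1) * d := card_two_pt S.two hba.symm
  have hn2 : 2 ≤ n := by
    rw [hn, Nat.card_eq_fintype_card]; exact Fintype.one_lt_card_iff.2 ⟨a, b, hba.symm⟩
  have hdall : ∀ x y : Ω, x ≠ y → Nat.card ↥(stabilizer G x ⊓ stabilizer G y) = d := fun x y hxy => by
    have h := card_two_pt S.two hxy
    rw [hG] at h
    exact (Nat.eq_of_mul_eq_mul_left (Nat.mul_pos (by omega) (by omega)) h).symm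
  -- the kernel on `F`
  have hKF : ∀ y ∈ D, ∀ c ∈ F, y • c = c := by
    by_contra hne
    push Not at hne
    obtain ⟨y0, hy0, c0, hc0, hy0c⟩ := hne
    let Ker : Finset G := Finset.univ.filter fun y => ∀ c ∈ F, y • c = c
    let Ca : Finset G := Finset.univ.filter fun y => y ∈ C ∧ y • a = a
    let Fa : Finset Ω := Finset.univ.filter fun c => c ∈ F ∧ c ≠ a
    let T : Ω → Finset G := fun c =>
      Finset.univ.filter fun y => y ∈ stabilizer G a ⊓ stabilizer G c ∧ ¬ ∀ e ∈ F, y • e = e
    have hTcard : ∀ c ∈ Fa, (T c).card + Ker.card = d := by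
      intro c hc
      obtain ⟨hcF, hca⟩ := (Finset.mem_filter.1 hc).2
      rw [← hdall a c hca.symm, Nat.card_eq_fintype_card, Fintype.card_subtype,
        ← Finset.card_union_of_disjoint]
      · congr 1
        ext y
        simp only [T, Ker, Finset.mem_union, Finset.mem_filter, Finset.mem_univ, true_and,
          Subgroup.mem_inf, mem_stabilizer_iff]
        constructor
        · rintro (⟨h, -⟩ | h)
          · exact h
          · exact ⟨h a ha, h c hcF⟩
        · intro h
          by_cases h' : ∀ e ∈ F, y • e = e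
          · exact Or.inr h'
          · exact Or.inl ⟨h, h'⟩
      · exact Finset.disjoint_left.2 fun y h1 h2 =>
          (Finset.mem_filter.1 h1).2.2 (Finset.mem_filter.1 h2).2
    have hTsub : ∀ c ∈ Fa, T c ⊆ Ca := fun c hc y hy => by
      obtain ⟨hcF, hca⟩ := (Finset.mem_filter.1 hc).2
      obtain ⟨⟨hya, hyc⟩, -⟩ := (Finset.mem_filter.1 hy).2
      exact Finset.mem_filter.2 ⟨Finset.mem_univ _, hDC a ha c hcF hca.symm y hya hyc, hya⟩
    have hdisj : (↑Fa : Set Ω).PairwiseDisjoint T := by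
      intro c hc c' hc' hne
      refine Finset.disjoint_left.2 fun y hy hy' => ?_
      obtain ⟨hcF, hca⟩ := (Finset.mem_filter.1 hc).2
      obtain ⟨hcF', hca'⟩ := (Finset.mem_filter.1 hc').2
      obtain ⟨⟨hya, hyc⟩, hyk⟩ := (Finset.mem_filter.1 hy).2
      obtain ⟨⟨-, hyc'⟩, -⟩ := (Finset.mem_filter.1 hy').2
      refine hyk fun e he => ?_
      have hsub : fixSet Ω (insert y R) ⊆ F := fun p hp r hr => hp r (Set.mem_insert_of_mem _ hr)
      have h3 : 3 ≤ (fixSet Ω (insert y R)).ncard := by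
        calc 3 = ({a, c, c'} : Set Ω).ncard :=
              (Set.ncard_eq_three.2 ⟨a, c, c', hca.symm, hca'.symm, hne, rfl⟩).symm
          _ ≤ _ := Set.ncard_le_ncard (by
              rintro p (rfl | rfl | rfl) r hr <;> rcases hr with rfl | hr
              exacts [hya, ha r hr, hyc, hcF r hr, hyc', hcF' r hr]) (Set.toFinite _)
      have := hmin (insert y R) ⟨⟨r0, Set.mem_insert_of_mem _ hr0, hr01⟩, h3⟩
      have heq := Set.eq_of_subset_of_ncard_le hsub this (Set.toFinite _)
      exact (heq.symm ▸ he : e ∈ fixSet Ω (insert y R)) y (Set.mem_insert _ _)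
    have hKsub : Ker ⊆ Ca := fun y hy => by
      have h := (Finset.mem_filter.1 hy).2
      exact Finset.mem_filter.2 ⟨Finset.mem_univ _,
        hDC a ha b hb hba.symm y (h a ha) (h b hb), h a ha⟩
    have hle : (Fa.biUnion T).card + Ker.card ≤ Ca.card := by
      rw [← Finset.card_union_of_disjoint]
      · exact Finset.card_le_card (Finset.union_subset (Finset.biUnion_subset.2 hTsub) hKsub)
      · refine Finset.disjoint_left.2 fun y h1 h2 => ?_
        obtain ⟨c, -, hy⟩ := Finset.mem_biUnion.1 h1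
        exact (Finset.mem_filter.1 hy).2.2 (Finset.mem_filter.1 h2).2
    rw [Finset.card_biUnion hdisj] at hle
    -- orbits
    let orb : Ω → Finset Ω := fun c => Ca.image fun y => y • c
    have horbsub : ∀ c ∈ Fa, orb c ⊆ Fa := fun c hc e he => by
      obtain ⟨hcF, hca⟩ := (Finset.mem_filter.1 hc).2
      obtain ⟨y, hy, rfl⟩ := Finset.mem_image.1 he
      obtain ⟨hyC, hya⟩ := (Finset.mem_filter.1 hy).2
      exact Finset.mem_filter.2 ⟨Finset.mem_univ _, hCF y hyC c hcF,
        fun h => hca (MulAction.injective y (h.trans hya.symm))⟩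
    have horbcard : ∀ c ∈ Fa, Ca.card = d * (orb c).card := fun c hc => by
      obtain ⟨hcF, hca⟩ := (Finset.mem_filter.1 hc).2
      have hCsub : ∀ y, y ∈ Ca ↔ y ∈ C ⊓ stabilizer G a := fun y => by simp [Ca]
      have hst : stabilizer ↥(C ⊓ stabilizer G a) c =
          (stabilizer G a ⊓ stabilizer G c).subgroupOf (C ⊓ stabilizer G a) := by
        ext y
        rw [Subgroup.mem_subgroupOf, Subgroup.mem_inf]
        exact ⟨fun h => ⟨(Subgroup.mem_inf.1 y.2).2, h⟩, fun h => h.2⟩
      have horb : orbit ↥(C ⊓ stabilizer G a) c = ↑(orb c) := by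
        ext e
        simp only [orb, Finset.coe_image, Set.mem_image, Finset.mem_coe]
        constructor
        · rintro ⟨y, rfl⟩; exact ⟨y, (hCsub _).2 y.2, rfl⟩
        · rintro ⟨y, hy, rfl⟩; exact ⟨⟨y, (hCsub _).1 hy⟩, rfl⟩
      rw [← Set.ncard_coe_finset (orb c), ← horb, ← index_stabilizer, hst, ← hdall a c hca.symm,
        ← Nat.card_congr (Subgroup.subgroupOfEquivOfLe (H := stabilizer G a ⊓ stabilizer G c)
          (K := C ⊓ stabilizer G a) (fun y hy => Subgroup.mem_inf.2
            ⟨hDC a ha c hcF hca.symm y hy.1 hy.2, hy.1⟩)).toEquiv,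
        Subgroup.card_mul_index, Nat.card_eq_fintype_card]
      exact Eq.symm (Fintype.card_of_subtype Ca hCsub)
    have hbFa : b ∈ Fa := Finset.mem_filter.2 ⟨Finset.mem_univ _, hb, hba⟩
    obtain ⟨b', hb', hbb'⟩ : ∃ b' ∈ Fa, b' ∉ orb b := by
      by_contra h
      push Not at h
      -- then an element of `C` interchanges two points
      obtain ⟨k, hk, hka⟩ := htrans a ha b hb
      have he : k • b ∈ F := hCF k hk b hb
      have heb : k • b ≠ b := fun h' => hba (MulAction.injective k (h'.trans hka.symm))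
      have hconj : ∀ e ∈ F, e ≠ b → ∃ y ∈ C, y • b = b ∧ y • (k • a) = k • a ∧ y • e = a := by
        intro e he heb
        have he' : k⁻¹ • e ∈ Fa := Finset.mem_filter.2 ⟨Finset.mem_univ _,
          hCF _ (inv_mem hk) e he, fun h' => heb (by rw [← hka, ← h', smul_inv_smul])⟩
        have ha' : k⁻¹ • a ∈ Fa := Finset.mem_filter.2 ⟨Finset.mem_univ _,
          hCF _ (inv_mem hk) a ha, fun h' => hba (by rw [← hka, ← inv_smul_eq_iff.1 h'])⟩
        obtain ⟨y1, hy1, hy1e⟩ := Finset.mem_image.1 (h _ he')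
        obtain ⟨y2, hy2, hy2a⟩ := Finset.mem_image.1 (h _ ha')
        obtain ⟨hy1C, hy1a⟩ := (Finset.mem_filter.1 hy1).2
        obtain ⟨hy2C, hy2a'⟩ := (Finset.mem_filter.1 hy2).2
        have hy1b : y1⁻¹ • a = a := inv_smul_eq_iff.2 hy1a.symm
        have hkb : k⁻¹ • b = a := inv_smul_eq_iff.2 hka.symm
        refine ⟨k * (y2 * y1⁻¹) * k⁻¹, mul_mem (mul_mem hk (mul_mem hy2C (inv_mem hy1C)))
          (inv_mem hk), ?_, ?_, ?_⟩
        · rw [mul_smul, mul_smul, mul_smul, hkb, hy1b, hy2a', hka]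
        · rw [mul_smul, mul_smul, mul_smul, inv_smul_smul, hy1b, hy2a']
        · rw [mul_smul, mul_smul, mul_smul, inv_smul_eq_iff.2 hy1e.symm, hy2a, smul_inv_smul]
      obtain ⟨y, hy, hyb, -, hye⟩ := hconj (k • b) he heb
      have hyk : y * k ∈ C := mul_mem hy hk
      have hsa : (y * k) • a = b := by rw [mul_smul, hka, hyb]
      have hsb : (y * k) • b = a := by rw [mul_smul, hye]
      refine hodd _ hyk (orderOf_of_sq (S.invol _ a (by rw [hsa]; exact hba) (by rw [hsa, hsb]))
        fun h' => hba ?_)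
      rw [← hsa, h', one_smul]
    have hdis : Disjoint (orb b) (orb b') := Finset.disjoint_left.2 fun e he he' => hbb' (by
      obtain ⟨y, hy, rfl⟩ := Finset.mem_image.1 he
      obtain ⟨y', hy', hye⟩ := Finset.mem_image.1 he'
      obtain ⟨hyC, hya⟩ := (Finset.mem_filter.1 hy).2
      obtain ⟨hyC', hya'⟩ := (Finset.mem_filter.1 hy').2
      refine Finset.mem_image.2 ⟨y'⁻¹ * y, Finset.mem_filter.2 ⟨Finset.mem_univ _,
        mul_mem (inv_mem hyC') hyC, by rw [mul_smul, hya, inv_smul_eq_iff, hya']⟩, ?_⟩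
      rw [mul_smul, ← hye, inv_smul_smul])
    have hc2 : (orb b).card + (orb b').card ≤ Fa.card := by
      rw [← Finset.card_union_of_disjoint hdis]
      exact Finset.card_le_card (Finset.union_subset (horbsub b hbFa) (horbsub b' hb'))
    -- `y0` is outside the kernel
    have hKd : 2 * Ker.card ≤ d := by
      let Kg : Subgroup G := ⨅ c ∈ F, stabilizer G c
      have hKgmem : ∀ y, y ∈ Kg ↔ ∀ c ∈ F, y • c = c := fun y => by
        simp [Kg, Subgroup.mem_iInf]
      have hKgle : Kg ≤ D := fun y hy =>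
        Subgroup.mem_inf.2 ⟨(hKgmem y).1 hy a ha, (hKgmem y).1 hy b hb⟩
      have hKgcard : Nat.card Kg = Ker.card := by
        rw [Nat.card_eq_fintype_card]
        exact Fintype.card_of_subtype Ker fun y => by simp [Ker, hKgmem]
      have hne : Kg ≠ D := fun h => hy0c ((hKgmem y0).1 (h ▸ hy0) c0 hc0)
      obtain ⟨k, hk⟩ := Subgroup.card_dvd_of_le hKgle
      rw [← hd, hKgcard] at hk
      have hk2 : 2 ≤ k := by
        by_contra hlt
        have hdpos : 0 < d := Nat.card_pos
        have : k = 1 := by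
          rcases k with _ | _ | k
          · simp at hk; omega
          · rfl
          · omega
        exact hne (Subgroup.eq_of_le_of_card_ge hKgle (by rw [hKgcard, ← hd, hk, this, mul_one]))
      rw [hk, mul_comm 2]
      exact Nat.mul_le_mul_left _ hk2
    have hsum : ∑ c ∈ Fa, (T c).card = Fa.card * (d - Ker.card) := by
      rw [← smul_eq_mul, ← Finset.sum_const]
      exact Finset.sum_congr rfl fun c hc => by have := hTcard c hc; omega
    have hKpos : 0 < Ker.card := Finset.card_pos.2 ⟨1, by simp [Ker]⟩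
    rw [hsum] at hle
    have e1' := horbcard b hbFa
    have e2' := horbcard b' hb'
    have h6 : Fa.card * d ≤ 2 * (Fa.card * (d - Ker.card)) := by
      rw [mul_left_comm]
      exact Nat.mul_le_mul_left _ (by omega)
    have h7 : 2 * Ca.card ≤ Fa.card * d := by
      calc 2 * Ca.card = d * (orb b).card + d * (orb b').card := by omega
        _ = d * ((orb b).card + (orb b').card) := by ring
        _ ≤ d * Fa.card := Nat.mul_le_mul_left _ hc2
        _ = Fa.card * d := mul_comm _ _
    omega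
  -- the involutions fixing `a` act alike on `F` and invert `R`
  have hcentw : ∀ y, Commute y w → y • a = a := fun y hy => by
    have h : w • (y • a) = y • a := by rw [← mul_smul, ← hy.eq, mul_smul, hwa]
    have : y • a ∈ fixedBy Ω w := h
    rwa [hwone] at this
  set Cw := Subgroup.centralizer ({w} : Set G) with hCw
  have hCwmem : ∀ y : G, y ∈ Cw ↔ Commute y w := fun y => Subgroup.mem_centralizer_singleton_iff
  have hmeet : D ⊓ Cw = ⊥ := by
    rw [eq_bot_iff]
    rintro y ⟨⟨hya, hyb⟩, hyc⟩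
    refine Subgroup.mem_bot.2 ?_
    by_contra hy1
    exact S.not_commute hi hba.symm hy1 hya hyb hw2o ((hCwmem y).1 hyc)
  have hGa : ∀ x : G, x • a = a → ∃ y ∈ D, ∃ z ∈ Cw, x = y * z := by
    let φ : ↥D × ↥Cw → ↥(stabilizer G a) := fun p =>
      ⟨(p.1 : G) * p.2, mul_mem (Subgroup.mem_inf.1 p.1.2).1 (hcentw _ ((hCwmem _).1 p.2.2))⟩
    have hinj : Function.Injective φ := by
      intro p q h
      have hpq : (p.1 : G) * p.2 = q.1 * q.2 := congrArg Subtype.val h
      have h1 : (q.1 : G)⁻¹ * p.1 = (q.2 : G) * (p.2 : G)⁻¹ := by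
        rw [eq_mul_inv_iff_mul_eq, mul_assoc, hpq]; group
      have h2 : (q.1 : G)⁻¹ * p.1 ∈ D ⊓ Cw := Subgroup.mem_inf.2
        ⟨D.mul_mem (D.inv_mem q.1.2) p.1.2, h1 ▸ Cw.mul_mem q.2.2 (Cw.inv_mem p.2.2)⟩
      rw [hmeet, Subgroup.mem_bot, inv_mul_eq_one] at h2
      refine Prod.ext (Subtype.ext h2.symm) (Subtype.ext ?_)
      rw [h2] at hpq
      exact mul_left_cancel hpq
    have hcard : Nat.card (↥D × ↥Cw) = Nat.card ↥(stabilizer G a) := by
      have hcw : Nat.card ↥Cw + i = Nat.card Ω := S.card w hw2o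
      rw [hi1, ← hn] at hcw
      have hpre : IsPretransitive G Ω := ⟨fun x y => by
        obtain ⟨z, hz⟩ : ∃ z, z ≠ x := by
          rcases eq_or_ne a x with rfl | h
          exacts [⟨b, hba⟩, ⟨a, h⟩]
        rcases eq_or_ne x y with rfl | hxy
        · exact ⟨1, one_smul _ _⟩
        · obtain ⟨g', hg', -⟩ := S.two x y y x hxy hxy.symm
          exact ⟨g', hg'⟩⟩
      have h := Subgroup.card_mul_index (stabilizer G a)
      rw [index_stabilizer_of_transitive, ← hn, hG, mul_comm _ n, mul_assoc] at h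
      rw [Nat.eq_of_mul_eq_mul_left (by omega) h, Nat.card_prod, ← hd,
        show Nat.card ↥Cw = n - 1 by omega, mul_comm]
    have hbij := (Nat.bijective_iff_injective_and_card φ).2 ⟨hinj, hcard⟩
    intro x hx
    obtain ⟨p, hp⟩ := hbij.2 ⟨x, hx⟩
    exact ⟨p.1, p.1.2, p.2, p.2.2, (congrArg Subtype.val hp).symm⟩
  have hinvR : ∀ r ∈ R, w * r * w = r⁻¹ := hwR
  have hJ : ∀ v : G, orderOf v = 2 → v • a = a →
      (∀ r ∈ R, v * r * v = r⁻¹) ∧ ∀ c ∈ F, v • c = w • c := by
    intro v hv hva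
    obtain ⟨x, hx⟩ := S.conj w v hw2o hv
    have hxa : x • a = a := by
      have h : (fixedBy Ω v).ncard ≤ 1 := (S.cent v hv v (Commute.refl v)
        (fun h => by simp [h] at hv)).le.trans hi
      refine (Set.ncard_le_one (Set.toFinite _)).1 h (x • a) ?_ a hva
      show v • x • a = x • a
      rw [← hx, mul_smul, mul_smul, inv_smul_smul, hwa]
    obtain ⟨y, hy, z, hz, rfl⟩ := hGa x hxa
    have hvy : v = y * w * y⁻¹ := by
      rw [← hx]
      calc y * z * w * (y * z)⁻¹ = y * (z * w) * z⁻¹ * y⁻¹ := by group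
        _ = y * (w * z) * z⁻¹ * y⁻¹ := by rw [((hCwmem z).1 hz).eq]
        _ = y * w * y⁻¹ := by group
    have hyc : ∀ r ∈ R, r * y = y * r := Subgroup.mem_centralizer_iff.1
      (hDC a ha b hb hba.symm y hy.1 hy.2)
    refine ⟨fun r hr => ?_, fun c hc => ?_⟩
    · rw [hvy]
      calc y * w * y⁻¹ * r * (y * w * y⁻¹) = y * w * (y⁻¹ * (r * y)) * w * y⁻¹ := by group
        _ = y * (w * r * w) * y⁻¹ := by rw [hyc r hr]; group
        _ = y * r⁻¹ * y⁻¹ := by rw [hinvR r hr]
        _ = (y * r * y⁻¹)⁻¹ := by group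
        _ = r⁻¹ := by rw [← hyc r hr, mul_inv_cancel_right]
    · rw [hvy, mul_smul, mul_smul, inv_smul_eq_iff.2 (hKF y hy c hc).symm,
        hKF y hy _ (hwF c hc)]
  -- conjugates of `r0` under the stabiliser of `a` fix `b`
  have hfixall : ∀ e : Ω, r0 • e = e := by
    intro e
    rcases eq_or_ne e a with rfl | hea
    · exact hr0F _ ha
    obtain ⟨x, hxa, hxe⟩ := S.two a e a b hea.symm hba.symm
    set r' := x * r0 * x⁻¹ with hr'
    have hxa' : x⁻¹ • a = a := inv_smul_eq_iff.2 hxa.symm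
    have hr'a : r' • a = a := by rw [hr', mul_smul, mul_smul, hxa', hr0F a ha, hxa]
    set u := x⁻¹ * w * x with hu
    have hu2 : orderOf u = 2 := by
      rw [hu, ← hw2o]
      exact (by simpa using (MulAut.conj x⁻¹).orderOf_eq w)
    have hua : u • a = a := by rw [hu, mul_smul, mul_smul, hxa, hwa, hxa']
    have hinv := (hJ u hu2 hua).1 r0 hr0
    have hinv' : w * r' * w = r'⁻¹ := by
      calc w * r' * w = x * (u * r0 * u) * x⁻¹ := by rw [hr', hu]; group
        _ = r'⁻¹ := by rw [hinv, hr']; group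
    set v := r' * w * r'⁻¹ with hv
    have hv2 : orderOf v = 2 := by
      rw [hv, ← hw2o]; exact (MulAut.conj r').orderOf_eq w
    have hva : v • a = a := by
      rw [hv, mul_smul, mul_smul, inv_smul_eq_iff.2 hr'a.symm, hwa, hr'a]
    have hvw : v = r' * r' * w := by
      rw [hv, ← hinv']
      calc r' * w * (w * r' * w) = r' * (w * w) * r' * w := by group
        _ = r' * r' * w := by rw [hw2, mul_one]
    have hsq : (r' * r') • b = b := by
      have h := (hJ v hv2 hva).2 (w • b) (hwF b hb)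
      rwa [hvw, mul_smul, smul_smul_self hw2] at h
    have hr0C : r0 ∈ C := hDC a ha b hb hba.symm r0 (hr0F a ha) (hr0F b hb)
    have hodd' : Odd (orderOf r') := by
      have ho : orderOf r' = orderOf r0 := (MulAut.conj x).orderOf_eq r0
      rw [ho, ← Nat.not_even_iff_odd]
      intro he
      obtain ⟨m, hm⟩ := he
      have hm0 : orderOf r0 ≠ 0 := (orderOf_pos r0).ne'
      refine hodd (r0 ^ m) (pow_mem hr0C m) (orderOf_of_sq ?_ ?_)
      · rw [← pow_add, ← hm, pow_orderOf_eq_one]
      · intro h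
        have := Nat.le_of_dvd (by omega) (orderOf_dvd_of_pow_eq_one h)
        omega
    obtain ⟨m, hm⟩ := hodd'
    have hr'b : r' • b = b := by
      have h : r' = (r' * r') ^ (m + 1) := by
        rw [← pow_two, ← pow_mul, show 2 * (m + 1) = 2 * m + 1 + 1 by ring, pow_succ, ← hm,
          pow_orderOf_eq_one, one_mul]
      have hmem : (r' * r') ^ (m + 1) ∈ stabilizer G b := pow_mem hsq _
      rw [← h] at hmem
      exact hmem
    rw [hr', mul_smul, mul_smul, inv_smul_eq_iff.2 hxe.symm, ← eq_inv_smul_iff,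
      inv_smul_eq_iff.2 hxe.symm] at hr'b
    exact hr'b
  exact hr01 (eq_of_smul_eq_smul fun e : Ω => by rw [hfixall e, one_smul])

end Cfsg.Agent.H70.SameFix
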