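import Cfsg.Agent.H70.SameFix.Big
import Cfsg.Agent.H70.SameFix.Small
import Cfsg.Agent.H70.SzUnique.FrameSimple
import Cfsg.Agent.H28.ZassApps
import Cfsg.Agent.H28.ZassClassify
import Cfsg.Agent.H32.SharplyTwo
import Cfsg.Agent.S0338
import Cfsg.Agent.S0738
import Cfsg.Agent.S0742

/-!
A doubly transitive group with an involution whose centraliser fixes constantly many points is
`PSL(2,q)`, a Suzuki group or has a regular normal subgroup.
-/

set_option autoImplicit false

namespace Cfsg.Agent.H70.SameFix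

open MulAction

variable {G Ω : Type*} [Group G] [Finite G] [MulAction G Ω] [Finite Ω] [FaithfulSMul G Ω]

/-- A normal subgroup acting regularly. -/
def HasRegularNormal (G Ω : Type*) [Group G] [MulAction G Ω] : Prop :=
  ∃ R : Subgroup G, R.Normal ∧ (∀ x y : Ω, ∃ r ∈ R, r • x = y) ∧
    ∀ x : Ω, ∀ r ∈ R, r • x = x → r = 1

omit [Finite G] in
/-- Sharply doubly transitive groups have a regular normal subgroup. -/
theorem hasRegularNormal_of_sharp (h2 : IsMultiplyPretransitive G Ω 2) (hn : 2 ≤ Nat.card Ω)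
    (hsharp : ∀ a b : Ω, a ≠ b → ∀ g : G, g • a = a → g • b = b → g = 1) :
    HasRegularNormal G Ω := by
  classical
  have := Fintype.ofFinite Ω
  let φ : G →* Equiv.Perm Ω := toPermHom G Ω
  have hφ : ∀ (g : G) (x : Ω), φ g x = g • x := fun g x => rfl
  let L : Subgroup (Equiv.Perm Ω) := φ.range
  have hL2 : IsMultiplyPretransitive L Ω 2 := is_two_pretransitive_iff.2 fun {a b c d} hab hcd => by
    obtain ⟨g, hga, hgb⟩ := is_two_pretransitive_iff.1 h2 hab hcd
    exact ⟨⟨φ g, g, rfl⟩, hga, hgb⟩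
  have hLs : ∀ x : Fin 2 ↪ Ω, stabilizer L x = ⊥ := fun x => by
    rw [eq_bot_iff]
    rintro ⟨_, g, rfl⟩ hg
    have h : ∀ k, g • x k = x k := fun k => DFunLike.congr_fun hg k
    rw [Subgroup.mem_bot]
    exact Subtype.ext (by
      show φ g = 1
      rw [hsharp (x 0) (x 1) (fun he => by simpa using x.injective he) g (h 0) (h 1), map_one])
  obtain ⟨N, p, j, hN, -, -, -, -, -, -, htr, hfree, -⟩ :=
    H32.exists_sharply_two_kernel L hLs (by rwa [← Nat.card_eq_fintype_card])
  refine ⟨N.comap φ.rangeRestrict, hN.comap _, fun x y => ?_, fun x r hr hrx => ?_⟩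
  · obtain ⟨⟨⟨_, g, rfl⟩, hm⟩, hg⟩ := htr.exists_smul_eq x y
    exact ⟨g, hm, hg⟩
  · have hmem : (⟨φ.rangeRestrict r, hr⟩ : N) ∈ stabilizer N x := hrx
    rw [hfree x, Subgroup.mem_bot] at hmem
    have h1 : φ r = 1 := congrArg (fun q : N => ((q : L) : Equiv.Perm Ω)) hmem
    refine eq_of_smul_eq_smul fun e : Ω => ?_
    rw [← hφ r e, h1, one_smul]
    rfl

theorem classification (h2 : IsMultiplyPretransitive G Ω 2) (i : ℕ) (t : G) (ht : orderOf t = 2)
    (hC : ∀ g : G, Commute g t → g ≠ 1 → fixNum Ω g = i) :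
    (∃ (F : Type) (_ : Field F) (_ : Fintype F),
        Nonempty (G ≃* Matrix.ProjectiveSpecialLinearGroup (Fin 2) F)) ∨
      Cfsg.Lie.IsoSuzuki G ∨ HasRegularNormal G Ω := by
  classical
  have := Fintype.ofFinite Ω
  have S : Sys G Ω i :=
    Sys.of_hyp (fun a b c d hab hcd => is_two_pretransitive_iff.1 h2 hab hcd) ht hC
  by_cases hR : HasRegularNormal G Ω
  · exact Or.inr (Or.inr hR)
  have ht1 : t ≠ 1 := fun h => by simp [h] at ht
  obtain ⟨x0, hx0⟩ : ∃ x : Ω, t • x ≠ x := by
    by_contra h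
    push Not at h
    exact ht1 (eq_of_smul_eq_smul fun x : Ω => by rw [h x, one_smul])
  have hn2 : 2 ≤ Nat.card Ω := by
    rw [Nat.card_eq_fintype_card]; exact Fintype.one_lt_card_iff.2 ⟨_, _, hx0⟩
  have hi := S.le_two
  -- the Zassenhaus property
  have h3 : ∀ g : G, ∀ a b c : Ω, a ≠ b → b ≠ c → a ≠ c → g • a = a → g • b = b → g • c = c →
      g = 1 := by
    intro g a b c hab hbc hac hga hgb hgc
    rcases Nat.lt_or_ge i 2 with hlt | hge
    · exact S.eq_one_of_three (by omega) hab hbc hac hga hgb hgc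
    by_contra hg
    have hti : (fixedBy Ω t).ncard = i := S.cent t ht t (Commute.refl t) ht1
    obtain ⟨e1, he1, e2, he2, he⟩ := (Set.one_lt_ncard (Set.toFinite _)).1
      (show 1 < (fixedBy Ω t).ncard by omega)
    obtain ⟨k, hk1, hk2⟩ := S.two e1 e2 a b he hab
    set u := k * t * k⁻¹ with hu
    have hu2 : orderOf u = 2 := by rw [hu, ← ht]; exact (MulAut.conj k).orderOf_eq t
    have hua : u • a = a := by
      rw [hu, mul_smul, mul_smul, inv_smul_eq_iff.2 hk1.symm, (he1 : t • e1 = e1), hk1]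
    have hub : u • b = b := by
      rw [hu, mul_smul, mul_smul, inv_smul_eq_iff.2 hk2.symm, (he2 : t • e2 = e2), hk2]
    have hfix : (fixedBy Ω g).ncard = i := S.cent u hu2 g (S.two_pt_comm hab hga hgb hua hub) hg
    have h3' : ({a, b, c} : Set Ω).ncard = 3 := Set.ncard_eq_three.2 ⟨a, b, c, hab, hac, hbc, rfl⟩
    have : ({a, b, c} : Set Ω).ncard ≤ (fixedBy Ω g).ncard :=
      Set.ncard_le_ncard (by rintro p (rfl | rfl | rfl) <;> assumption) (Set.toFinite _)
    omega
  have hfix2 : ∃ g : G, g ≠ 1 ∧ ∃ a b : Ω, a ≠ b ∧ g • a = a ∧ g • b = b := by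
    by_contra h
    push Not at h
    refine hR (hasRegularNormal_of_sharp h2 hn2 fun a b hab g hga hgb => ?_)
    by_contra hg
    exact h g hg a b hab hga hgb
  have hZ : Cfsg.IsZassenhausGroup G Ω := ⟨inferInstance, h2, h3, hfix2, fun N hN htr => by
    by_contra hno
    push Not at hno
    refine hR ⟨N, hN, fun x y => ?_, fun x r hr hrx => ?_⟩
    · obtain ⟨⟨r, hr⟩, h⟩ := htr.exists_smul_eq x y
      exact ⟨r, hr, h⟩
    · have : (⟨r, hr⟩ : N) ∈ stabilizer N x := hrx
      rw [hno x, Subgroup.mem_bot] at this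
      exact congrArg Subtype.val this⟩
  have hcard := S.card t ht
  set C := Subgroup.centralizer ({t} : Set G) with hCdef
  have hCmem : ∀ g : G, g ∈ C ↔ Commute g t := fun g => Subgroup.mem_centralizer_singleton_iff
  have htfix : (fixedBy Ω t).ncard = i := S.cent t ht t (Commute.refl t) ht1
  have hCeven : Even (Nat.card C) := by
    rw [even_iff_two_dvd, ← ht]
    exact Subgroup.orderOf_dvd_natCard _ ((hCmem t).2 (Commute.refl t))
  have : Fact (Nat.Prime 2) := ⟨Nat.prime_two⟩
  have hoddD : i ≤ 1 → ∀ a b : Ω, a ≠ b →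
      Odd (Nat.card ↥(stabilizer G a ⊓ stabilizer G b)) := fun hi1 a b hab => by
    rw [← Nat.not_even_iff_odd]
    intro he
    obtain ⟨⟨x, hx⟩, hx2⟩ := exists_prime_orderOf_dvd_card' 2 (even_iff_two_dvd.1 he)
    rw [← Subgroup.orderOf_coe] at hx2
    exact S.not_commute hi1 hab (x := x) (fun h => by simp [h] at hx2) hx.1 hx.2 hx2
      (Commute.refl x)
  rcases (show i = 0 ∨ i = 1 ∨ i = 2 by omega) with rfl | rfl | rfl
  · -- no fixed points
    refine Or.inl ?_
    obtain ⟨a, b, hab⟩ : ∃ a b : Ω, a ≠ b := ⟨_, _, hx0⟩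
    obtain ⟨H, hH, -⟩ := H28.Zass.exists_ker hZ a
    have hodd := hoddD (by omega) a b hab
    have hHc := hH.card
    have hHodd : Odd (Nat.card H) := by
      rw [← Nat.not_even_iff_odd]
      intro he
      have h' : Even (Nat.card H + 1) := by
        rw [hHc, ← hcard, add_zero]; exact hCeven
      exact (Nat.even_add_one.1 h') he
    set e := Nat.card ↥(stabilizer G a ⊓ stabilizer G b) with he
    have hle : Nat.card H - 1 ≤ 2 * e := by
      by_contra hlt
      obtain ⟨hH2, ⟨u, v, huv⟩, -⟩ := H28.Zass.feit_two hH hZ hab hodd (by omega)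
      obtain ⟨k, hk⟩ := IsPGroup.iff_card.1 hH2
      rcases k with _ | k
      · rw [pow_zero] at hk
        have : Subsingleton H := (Nat.card_eq_one_iff_unique.1 hk).1
        exact huv (Subsingleton.elim _ _)
      · rw [hk, pow_succ] at hHodd
        exact Nat.not_even_iff_odd.2 hHodd (even_two.mul_left _)
    have hcomm : ∀ u ∈ H, ∀ v ∈ H, u * v = v * u := by
      obtain ⟨hc, -⟩ := S0738.result hZ hab (by rw [← Nat.card_eq_fintype_card]; omega) H hH.le
        ⟨fun v hv g => hH.conj_mem hZ g.2 hv⟩ (fun y z hy hz => hH.regular hZ hy hz)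
      exact fun u hu v hv => congrArg Subtype.val (hc.is_comm.comm ⟨u, hu⟩ ⟨v, hv⟩)
    have hhalf := (H28.Zass.kernel_cases hH hZ hab hcomm).resolve_left fun h => by
      rw [← h] at hHodd
      exact Nat.not_even_iff_odd.2 hHodd (Odd.add_one hodd)
    obtain ⟨F, hF, hF', -, -, hiso⟩ := H28.Zass.half_equiv hH hZ hab hcomm hhalf
    exact ⟨F, hF, hF', hiso⟩
  · -- one fixed point
    obtain ⟨a, ha⟩ := Set.ncard_eq_one.1 htfix
    have hta : t • a = a := (ha.ge rfl : a ∈ fixedBy Ω t)
    obtain ⟨b, hab⟩ : ∃ b, a ≠ b := by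
      rcases eq_or_ne a x0 with rfl | h
      exacts [absurd hta hx0, ⟨x0, h⟩]
    obtain ⟨H, hH, -⟩ := H28.Zass.exists_ker hZ a
    have hHc := hH.card
    have hCH : C = H := by
      refine Subgroup.eq_of_le_of_card_ge (fun g hg => ?_) (by omega)
      rw [hH.mem_iff hZ]
      have hgt := (hCmem g).1 hg
      have hga : g • a = a := by
        have h : g • a ∈ fixedBy Ω t := by
          show t • g • a = g • a
          rw [← mul_smul, ← hgt.eq, mul_smul, hta]
        rwa [ha] at h
      refine ⟨hga, (em (g = 1)).imp id fun hg1 c hc => ?_⟩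
      exact (Set.ncard_le_one (Set.toFinite _)).1 (S.cent t ht g hgt hg1).le c hc a hga
    have hsimple : IsSimpleGroup G := S0338.result hZ (by
      rw [← Nat.card_eq_fintype_card, ← hcard]; exact hCeven.add_one)
    have hN : Subgroup.normalizer (C : Set G) = stabilizer G a := by
      rw [hCH]; exact hH.normalizer_eq hZ
    have hidx : Odd H.index := by
      have h1 := hH.card_group hZ hab
      have h2 := H.card_mul_index
      rw [h1, ← mul_assoc, mul_comm (Nat.card Ω), mul_assoc] at h2
      rw [Nat.eq_of_mul_eq_mul_left Nat.card_pos h2]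
      refine (?_ : Odd (Nat.card Ω)).mul (hoddD le_rfl a b hab)
      rw [← hcard]; exact hCeven.add_one
    obtain ⟨F, hF⟩ : ∃ F : H65.CIT.Frame G, F.z = t := by
      refine ⟨⟨t, ht, ?_, fun x hx hx1 => ?_, fun x hx hx1 g hg => ?_, ?_, ?_, ?_⟩, rfl⟩
      · obtain ⟨P⟩ : Nonempty (Sylow 2 H) := inferInstance
        obtain ⟨Q, hQ⟩ := (P.isPGroup'.map H.subtype).exists_le_sylow
        refine ⟨Q, ?_⟩
        show (Q : Subgroup G) ≤ C
        have hle : Nat.card Q ≤ Nat.card ↥((P : Subgroup H).map H.subtype) := by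
          rw [Subgroup.card_map_of_injective H.subtype_injective, P.card_eq_multiplicity,
            Q.card_eq_multiplicity, ← H.card_mul_index, Nat.factorization_mul Nat.card_pos.ne'
              Subgroup.index_ne_zero_of_finite, Finsupp.add_apply,
            Nat.factorization_eq_zero_of_not_dvd (n := H.index) (by
              rw [← even_iff_two_dvd]; exact Nat.not_even_iff_odd.2 hidx), add_zero]
        rw [← Subgroup.eq_of_le_of_card_ge hQ hle, hCH]
        exact Subgroup.map_subtype_le _
      · show Subgroup.centralizer ({x} : Set G) ≤ C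
        rw [hCH]
        exact hH.centralizer_le hZ (hCH ▸ hx) hx1
      · show g ∈ Subgroup.normalizer (C : Set G)
        rw [hN]
        exact hH.smul_eq_of_conj_mem (hCH ▸ hx) hx1 (hCH ▸ hg)
      · show Subgroup.normalizer (C : Set G) ≠ ⊤
        rw [hN]
        intro h
        obtain ⟨g, hg, -⟩ := S.two a b b a hab hab.symm
        have : g ∈ stabilizer G a := h ▸ Subgroup.mem_top g
        exact hab (this.symm.trans hg)
      · intro u hu hun
        show u ∈ C
        rw [hCH, hH.mem_iff hZ]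
        have hua : u • a = a := by
          have : u ∈ stabilizer G a := hN ▸ hun
          exact this
        have hu1 : u ≠ 1 := fun h => by simp [h] at hu
        exact ⟨hua, Or.inr fun c hc => (Set.ncard_le_one (Set.toFinite _)).1
          (S.cent u hu u (Commute.refl u) hu1).le c hc a hua⟩
      · intro K hK hKodd
        refine (hsimple.eq_bot_or_eq_top_of_normal K hK).resolve_right fun htop => ?_
        rw [htop, Subgroup.card_top] at hKodd
        exact Nat.not_even_iff_odd.2 hKodd
          (even_iff_two_dvd.2 (ht ▸ orderOf_dvd_natCard t))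
    rcases (SzUnique.classification_of_frame F).2 with ⟨m, hm, he⟩ | hSz
    · exact Or.inl ⟨GaloisField 2 m, inferInstance, Fintype.ofFinite _, he⟩
    · exact Or.inr (Or.inl hSz)
  · -- two fixed points
    refine Or.inl ?_
    obtain ⟨a, b, hab, hfab⟩ := Set.ncard_eq_two.1 htfix
    have hta : t • a = a := (hfab.ge (Set.mem_insert _ _) : a ∈ fixedBy Ω t)
    have htb : t • b = b := (hfab.ge (Set.mem_insert_of_mem _ rfl) : b ∈ fixedBy Ω t)
    set D := stabilizer G a ⊓ stabilizer G b with hD
    have htD : t ∈ D := ⟨hta, htb⟩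
    have hDC : D ≤ C := fun x hx => (hCmem x).2 (S.two_pt_comm hab hx.1 hx.2 hta htb)
    obtain ⟨w, hw, hwa, hwb⟩ := S.exists_swap hab
    have hwC : w ∈ C := by
      refine (hCmem w).2 ?_
      have h := S.inverts hab hwa hwb hta htb
      rw [inv_eq_of_mul_eq_one_right (sq_of_orderOf ht)] at h
      calc w * t = w * t * w * w := by rw [mul_assoc (w * t), hw, mul_one]
        _ = t * w := by rw [h]
    obtain ⟨k, hk⟩ := Subgroup.card_dvd_of_le hDC
    have hk2 : 2 ≤ k := by
      by_contra hlt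
      have hpos : 0 < Nat.card C := Nat.card_pos
      rcases k with _ | _ | k
      · omega
      · have := Subgroup.eq_of_le_of_card_ge hDC (by omega)
        exact hab ((this.symm ▸ hwC : w ∈ D).1.symm.trans hwa)
      · omega
    obtain ⟨p, f, F, hF, hF', -, -, -, -, he⟩ := S0742.result hZ hab
      (by rw [even_iff_two_dvd, ← ht]; exact Subgroup.orderOf_dvd_natCard _ htD) (by
        rw [← Nat.card_eq_fintype_card, ← hD, ← hcard, hk]
        have := Nat.mul_le_mul_left (Nat.card D) hk2
        omega)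
    exact ⟨F, hF, hF', he⟩

end Cfsg.Agent.H70.SameFix
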