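import Mathlib

/-!
Doubly transitive groups with an involution `t` such that every non-identity element of `C(t)` has as
many fixed points as `t`: every element interchanging two points is a conjugate of `t`.
-/

set_option autoImplicit false

namespace Cfsg.Agent.H70.SameFix

open MulAction

variable {G Ω : Type*} [Group G] [MulAction G Ω]

/-- The number of fixed points. -/
noncomputable def fixNum (Ω : Type*) [MulAction G Ω] (g : G) : ℕ := (fixedBy Ω g).ncard

theorem fixedBy_conj_eq (g x : G) : fixedBy Ω (g * x * g⁻¹) = (fun p => g • p) '' fixedBy Ω x := by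
  ext p
  constructor
  · intro hp
    refine ⟨g⁻¹ • p, ?_, smul_inv_smul g p⟩
    have h : (g * x * g⁻¹) • p = p := hp
    rw [mul_smul, mul_smul] at h
    show x • g⁻¹ • p = g⁻¹ • p
    exact eq_inv_smul_iff.2 h
  · rintro ⟨q, hq, rfl⟩
    show (g * x * g⁻¹) • g • q = g • q
    rw [mul_smul, mul_smul, inv_smul_smul, (hq : x • q = q)]

theorem fixNum_conj (g x : G) : fixNum Ω (g * x * g⁻¹) = fixNum Ω x := by
  rw [fixNum, fixNum, fixedBy_conj_eq, Set.ncard_image_of_injective _ (MulAction.injective g)]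

theorem smul_smul_self {g : G} (h : g * g = 1) (x : Ω) : g • g • x = x := by
  rw [smul_smul, h, one_smul]

theorem sq_of_orderOf {u : G} (h : orderOf u = 2) : u * u = 1 := by
  rw [← pow_two, ← h]
  exact pow_orderOf_eq_one u

theorem orderOf_of_sq {u : G} (h : u * u = 1) (h1 : u ≠ 1) : orderOf u = 2 :=
  haveI : Fact (Nat.Prime 2) := ⟨Nat.prime_two⟩
  orderOf_eq_prime (by rw [pow_two]; exact h) h1

/-- What the hypothesis on `t` gives: the involutions form one class, every element interchanging two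
points is an involution, every element of the centraliser of an involution fixes `i` points. -/
structure Sys (G Ω : Type*) [Group G] [MulAction G Ω] (i : ℕ) : Prop where
  two : ∀ a b c d : Ω, a ≠ b → c ≠ d → ∃ g : G, g • a = c ∧ g • b = d
  invol : ∀ (g : G) (x : Ω), g • x ≠ x → g • g • x = x → g * g = 1
  conj : ∀ u v : G, orderOf u = 2 → orderOf v = 2 → ∃ g : G, g * u * g⁻¹ = v
  exists_invol : ∃ u : G, orderOf u = 2
  cent : ∀ u : G, orderOf u = 2 → ∀ g : G, Commute g u → g ≠ 1 → fixNum Ω g = i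
  card : ∀ u : G, orderOf u = 2 →
    Nat.card (Subgroup.centralizer ({u} : Set G)) + i = Nat.card Ω

theorem card_two_pt [Finite Ω]
    (h2 : ∀ a b c d : Ω, a ≠ b → c ≠ d → ∃ g : G, g • a = c ∧ g • b = d) {a b : Ω}
    (hab : a ≠ b) :
    Nat.card G = Nat.card Ω * (Nat.card Ω - 1) * Nat.card ↥(stabilizer G a ⊓ stabilizer G b) := by
  classical
  have := Fintype.ofFinite Ω
  have hst : stabilizer G (a, b) = stabilizer G a ⊓ stabilizer G b := by
    ext g
    rw [Subgroup.mem_inf, mem_stabilizer_iff, mem_stabilizer_iff, mem_stabilizer_iff,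
      Prod.smul_mk, Prod.mk.injEq]
  have horb : orbit G (a, b) = ↑((Finset.univ : Finset Ω).offDiag) := by
    ext ⟨c, d⟩
    simp only [Finset.mem_coe, Finset.mem_offDiag, Finset.mem_univ, true_and]
    constructor
    · rintro ⟨g, hg⟩
      simp only [Prod.smul_mk, Prod.mk.injEq] at hg
      rw [← hg.1, ← hg.2]
      exact fun h => hab (MulAction.injective g h)
    · intro hcd
      obtain ⟨g, hc, hd⟩ := h2 a b c d hab hcd
      exact ⟨g, by simp [Prod.smul_mk, hc, hd]⟩
  rw [← Subgroup.card_mul_index (stabilizer G (a, b)), index_stabilizer, horb, hst,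
    Set.ncard_coe_finset, Finset.offDiag_card, Finset.card_univ, ← Nat.card_eq_fintype_card,
    Nat.mul_sub_one, mul_comm]

theorem card_conjugates [Finite G] (t : G) :
    {u : G | IsConj t u}.ncard * Nat.card (Subgroup.centralizer ({t} : Set G)) = Nat.card G := by
  have horb : orbit (ConjAct G) t = {u : G | IsConj t u} := by
    ext u
    rw [ConjAct.mem_orbit_conjAct]
    exact ⟨IsConj.symm, IsConj.symm⟩
  rw [← horb, ← index_stabilizer, Subgroup.nat_card_centralizer_nat_card_stabilizer,
    Subgroup.index_mul_card]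
  rfl

/-- The hypothesis on `t` gives the system. -/
theorem Sys.of_hyp [Finite G] [Finite Ω] [FaithfulSMul G Ω]
    (h2 : ∀ a b c d : Ω, a ≠ b → c ≠ d → ∃ g : G, g • a = c ∧ g • b = d) {i : ℕ} {t : G}
    (ht : orderOf t = 2) (hC : ∀ g : G, Commute g t → g ≠ 1 → fixNum Ω g = i) :
    Sys G Ω i := by
  classical
  have := Fintype.ofFinite G
  have := Fintype.ofFinite Ω
  set n := Nat.card Ω with hn
  set C := Subgroup.centralizer ({t} : Set G) with hCdef
  have hCmem : ∀ g : G, g ∈ C ↔ Commute g t := fun g => Subgroup.mem_centralizer_singleton_iff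
  have ht1 : t ≠ 1 := fun h => by simp [h] at ht
  obtain ⟨x0, hx0⟩ : ∃ x : Ω, t • x ≠ x := by
    by_contra h
    push Not at h
    exact ht1 (eq_of_smul_eq_smul fun x : Ω => by rw [h x, one_smul])
  have hti : fixNum Ω t = i := hC t (Commute.refl t) ht1
  have hin : i < n := by
    rw [← hti, hn, ← Set.ncard_univ]
    exact Set.ncard_lt_ncard ⟨Set.subset_univ _, fun h => hx0 (h (Set.mem_univ x0))⟩
  -- Burnside
  have hburn : Nat.card C ∣ n - i := by
    have hb := sum_card_fixedBy_eq_card_orbits_mul_card_group C Ω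
    rw [← Finset.add_sum_erase _ _ (Finset.mem_univ (1 : C))] at hb
    have h1 : Fintype.card (fixedBy Ω (1 : C)) = n := by
      rw [← Nat.card_eq_fintype_card, fixedBy_one_eq_univ, Nat.card_coe_set_eq, Set.ncard_univ]
    have hother : ∀ g ∈ (Finset.univ : Finset C).erase 1, Fintype.card (fixedBy Ω g) = i := by
      intro g hg
      rw [← hC (g : G) ((hCmem g).1 g.2) (fun h => Finset.ne_of_mem_erase hg (Subtype.ext h)),
        fixNum, ← Nat.card_eq_fintype_card, Nat.card_coe_set_eq]
      rfl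
    rw [h1, Finset.sum_congr rfl hother, Finset.sum_const,
      Finset.card_erase_of_mem (Finset.mem_univ _), Finset.card_univ, smul_eq_mul,
      ← Nat.card_eq_fintype_card (α := C)] at hb
    have hpos : 1 ≤ Nat.card C := Nat.card_pos
    refine ⟨Fintype.card (Quotient (orbitRel C Ω)) - i, ?_⟩
    rw [Nat.mul_sub, mul_comm (Nat.card C) (Fintype.card _), ← hb, Nat.sub_mul, one_mul]
    have := Nat.le_mul_of_pos_left i hpos
    rw [mul_comm (Nat.card C) i] at this ⊢
    omega
  have hCle : Nat.card C ≤ n - i := Nat.le_of_dvd (by omega) hburn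
  -- the count
  let K : Finset G := Finset.univ.filter fun u => IsConj t u
  have hKmem : ∀ {u : G}, u ∈ K ↔ IsConj t u := fun {u} => by simp [K]
  have hK2 : ∀ u ∈ K, orderOf u = 2 := fun u hu => by
    obtain ⟨g, rfl⟩ := isConj_iff.1 (hKmem.1 hu)
    rw [← ht]; exact (MulAut.conj g).orderOf_eq t
  have hKfix : ∀ u ∈ K, fixNum Ω u = i := fun u hu => by
    obtain ⟨g, rfl⟩ := isConj_iff.1 (hKmem.1 hu)
    rw [fixNum_conj, hti]
  have hKcard : K.card * Nat.card C = Nat.card G := by
    rw [← card_conjugates t, ← Set.ncard_coe_finset]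
    congr 2
    ext u
    simp [K]
  obtain ⟨a0, b0, hab0⟩ : ∃ a b : Ω, a ≠ b := ⟨_, _, hx0⟩
  set d := Nat.card ↥(stabilizer G a0 ⊓ stabilizer G b0) with hd
  have hG : Nat.card G = n * (n - 1) * d := card_two_pt h2 hab0
  have hd' : ∀ a b : Ω, a ≠ b → Nat.card ↥(stabilizer G a ⊓ stabilizer G b) = d := fun a b hab => by
    have h := card_two_pt h2 hab
    rw [hG] at h
    have hn2 : 2 ≤ n := by
      rw [hn, Nat.card_eq_fintype_card]
      exact Fintype.one_lt_card_iff.2 ⟨a, b, hab⟩
    exact (Nat.eq_of_mul_eq_mul_left (Nat.mul_pos (by omega) (by omega)) h).symm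
  let P : Finset (G × Ω) := (K ×ˢ Finset.univ).filter fun p => p.1 • p.2 ≠ p.2
  let f : G × Ω → Ω × Ω := fun p => (p.2, p.1 • p.2)
  have hP : P.card = K.card * (n - i) := by
    rw [Finset.card_filter, Finset.sum_product]
    rw [← smul_eq_mul, ← Finset.sum_const]
    refine Finset.sum_congr rfl fun u hu => ?_
    rw [← Finset.card_filter]
    have h := Set.ncard_add_ncard_compl (fixedBy Ω u)
    rw [show (fixedBy Ω u).ncard = i from hKfix u hu] at h
    have heq : (Finset.univ.filter fun x : Ω => u • x ≠ x).card = ((fixedBy Ω u)ᶜ).ncard := by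
      rw [← Set.ncard_coe_finset]
      congr 1
      ext x
      simp
    rw [heq]
    omega
  have hfib : ∀ p ∈ (Finset.univ : Finset Ω).offDiag,
      (P.filter fun q => f q = p).card ≤ d := by
    rintro ⟨a, b⟩ hp
    have hab : a ≠ b := (Finset.mem_offDiag.1 hp).2.2
    rcases (P.filter fun q => f q = (a, b)).eq_empty_or_nonempty with he | ⟨q0, hq0⟩
    · rw [he]; simp
    rw [← hd' a b hab, Nat.card_eq_fintype_card]
    have hmem : ∀ q ∈ P.filter (fun q => f q = (a, b)),
        q.1 • a = b ∧ q.1 • b = a ∧ q.2 = a := by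
      intro q hq
      obtain ⟨hqP, hqf⟩ := Finset.mem_filter.1 hq
      obtain ⟨hq1, hq2⟩ := Prod.mk.inj hqf
      have hqK := (Finset.mem_product.1 (Finset.mem_filter.1 hqP).1).1
      refine ⟨by rw [← hq1, hq2], ?_, hq1⟩
      rw [← hq2, smul_smul_self (sq_of_orderOf (hK2 _ hqK)), hq1]
    obtain ⟨w1, w2, -⟩ := hmem q0 hq0
    rw [← Finset.card_univ]
    let φ : G × Ω → ↥(stabilizer G a ⊓ stabilizer G b) := fun q =>
      if h : q0.1⁻¹ * q.1 ∈ stabilizer G a ⊓ stabilizer G b then ⟨_, h⟩ else 1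
    refine Finset.card_le_card_of_injOn φ (fun _ _ => Finset.mem_coe.2 (Finset.mem_univ _))
      fun q hq q' hq' h => ?_
    obtain ⟨u1, u2, hu⟩ := hmem q hq
    obtain ⟨v1, v2, hv⟩ := hmem q' hq'
    have hh : ∀ r : G, r • a = b → r • b = a →
        q0.1⁻¹ * r ∈ stabilizer G a ⊓ stabilizer G b := fun r r1 r2 => by
      refine Subgroup.mem_inf.2 ⟨?_, ?_⟩
      · show (q0.1⁻¹ * r) • a = a
        rw [mul_smul, r1, inv_smul_eq_iff, w1]
      · show (q0.1⁻¹ * r) • b = b
        rw [mul_smul, r2, inv_smul_eq_iff, w2]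
    simp only [φ, dif_pos (hh _ u1 u2), dif_pos (hh _ v1 v2), Subtype.mk.injEq, mul_right_inj] at h
    exact Prod.ext h (hu.trans hv.symm)
  have hmaps : Set.MapsTo f ↑P ↑((Finset.univ : Finset Ω).offDiag) := fun q hq =>
    Finset.mem_offDiag.2 ⟨Finset.mem_univ _, Finset.mem_univ _,
      fun h => (Finset.mem_filter.1 hq).2 h.symm⟩
  have hsum := Finset.card_eq_sum_card_fiberwise hmaps
  have hoff : (Finset.univ : Finset Ω).offDiag.card = n * (n - 1) := by
    rw [Finset.offDiag_card, Finset.card_univ, ← Nat.card_eq_fintype_card, Nat.mul_sub_one]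
  have htot : ∑ p ∈ (Finset.univ : Finset Ω).offDiag, (P.filter fun q => f q = p).card =
      ∑ _p ∈ (Finset.univ : Finset Ω).offDiag, d := by
    refine le_antisymm (Finset.sum_le_sum hfib) ?_
    rw [Finset.sum_const, smul_eq_mul, hoff, ← hsum, hP, ← hG, ← hKcard]
    exact Nat.mul_le_mul_left _ hCle
  have hall := (Finset.sum_eq_sum_iff_of_le hfib).1 htot
  have hCeq : Nat.card C + i = n := by
    rw [← hsum, hP, Finset.sum_const, smul_eq_mul, hoff, ← hG, ← hKcard] at htot
    have hKpos : 0 < K.card := Finset.card_pos.2 ⟨t, hKmem.2 (IsConj.refl t)⟩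
    have := Nat.eq_of_mul_eq_mul_left hKpos htot
    omega
  have hswap : ∀ (g : G) (x : Ω), g • x ≠ x → g • g • x = x → g ∈ K := by
    intro g x hgx hggx
    set y := g • x with hy
    have hp : (x, y) ∈ (Finset.univ : Finset Ω).offDiag :=
      Finset.mem_offDiag.2 ⟨Finset.mem_univ _, Finset.mem_univ _, fun h => hgx h.symm⟩
    have hc := hall _ hp
    -- the fibre fills the coset
    let W : Finset G := Finset.univ.filter fun r => r • x = y ∧ r • y = x
    have hW : W.card ≤ d := by
      rw [← hd' x y (fun h => hgx h.symm), Nat.card_eq_fintype_card, ← Finset.card_univ]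
      let ψ : G → ↥(stabilizer G x ⊓ stabilizer G y) := fun r =>
        if h : g⁻¹ * r ∈ stabilizer G x ⊓ stabilizer G y then ⟨_, h⟩ else 1
      refine Finset.card_le_card_of_injOn ψ (fun _ _ => Finset.mem_coe.2 (Finset.mem_univ _))
        fun r hr r' hr' h => ?_
      have hh : ∀ s ∈ W, g⁻¹ * s ∈ stabilizer G x ⊓ stabilizer G y := fun s hs => by
        obtain ⟨s1, s2⟩ := (Finset.mem_filter.1 hs).2
        refine Subgroup.mem_inf.2 ⟨?_, ?_⟩
        · show (g⁻¹ * s) • x = x
          rw [mul_smul, s1, inv_smul_eq_iff]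
        · show (g⁻¹ * s) • y = y
          rw [mul_smul, s2, inv_smul_eq_iff, hggx]
      simp only [ψ, dif_pos (hh r hr), dif_pos (hh r' hr'), Subtype.mk.injEq, mul_right_inj] at h
      exact h
    have himg : (P.filter fun q => f q = (x, y)).image Prod.fst ⊆ W := fun r hr => by
      obtain ⟨q, hq, rfl⟩ := Finset.mem_image.1 hr
      obtain ⟨hqP, hqf⟩ := Finset.mem_filter.1 hq
      obtain ⟨hq1, hq2⟩ := Prod.mk.inj hqf
      have hqK := (Finset.mem_product.1 (Finset.mem_filter.1 hqP).1).1
      refine Finset.mem_filter.2 ⟨Finset.mem_univ _, by rw [← hq1, hq2], ?_⟩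
      rw [← hq2, smul_smul_self (sq_of_orderOf (hK2 _ hqK)), hq1]
    have hcard : ((P.filter fun q => f q = (x, y)).image Prod.fst).card = d := by
      rw [Finset.card_image_of_injOn, hc]
      intro q hq q' hq' h
      exact Prod.ext h ((Prod.mk.inj (Finset.mem_filter.1 hq).2).1.trans
        (Prod.mk.inj (Finset.mem_filter.1 hq').2).1.symm)
    have := Finset.eq_of_subset_of_card_le himg (hW.trans hcard.ge)
    have hgW : g ∈ W := Finset.mem_filter.2 ⟨Finset.mem_univ _, hy.symm, hggx⟩
    rw [← this, Finset.mem_image] at hgW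
    obtain ⟨q, hq, rfl⟩ := hgW
    exact (Finset.mem_product.1 (Finset.mem_filter.1 (Finset.mem_filter.1 hq).1).1).1
  have hone : ∀ u : G, orderOf u = 2 → ∃ g : G, g * t * g⁻¹ = u := fun u hu => by
    obtain ⟨x, hx⟩ : ∃ x : Ω, u • x ≠ x := by
      by_contra h
      push Not at h
      have : u = 1 := eq_of_smul_eq_smul fun x : Ω => by rw [h x, one_smul]
      simp [this] at hu
    exact isConj_iff.1 (hKmem.1 (hswap u x hx (smul_smul_self (sq_of_orderOf hu) x)))
  refine ⟨h2, fun g x h1 h2' => sq_of_orderOf (hK2 g (hswap g x h1 h2')), ?_, ⟨t, ht⟩, ?_, ?_⟩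
  · intro u v hu hv
    obtain ⟨g, rfl⟩ := hone u hu
    obtain ⟨k, rfl⟩ := hone v hv
    exact ⟨k * g⁻¹, by group⟩
  · intro u hu g hg hg1
    obtain ⟨k, rfl⟩ := hone u hu
    rw [← fixNum_conj k⁻¹ g]
    refine hC _ ?_ (fun h => hg1 (conj_eq_one_iff.1 h))
    have := hg.map (MulAut.conj k⁻¹).toMonoidHom
    simpa [mul_assoc] using this
  · intro u hu
    obtain ⟨k, rfl⟩ := hone u hu
    have h := card_conjugates (k * t * k⁻¹)
    have hset : {w : G | IsConj (k * t * k⁻¹) w} = {w : G | IsConj t w} := by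
      ext w
      have hk : IsConj t (k * t * k⁻¹) := isConj_iff.2 ⟨k, rfl⟩
      exact ⟨fun h => hk.trans h, fun h => hk.symm.trans h⟩
    rw [hset, ← card_conjugates t] at h
    have hpos : 0 < {w : G | IsConj t w}.ncard :=
      (Set.ncard_pos (Set.toFinite _)).2 ⟨t, IsConj.refl t⟩
    rw [Nat.eq_of_mul_eq_mul_left hpos h]
    exact hCeq

namespace Sys

variable {i : ℕ} (S : Sys G Ω i)

include S

theorem exists_swap {a b : Ω} (hab : a ≠ b) :
    ∃ w : G, w * w = 1 ∧ w • a = b ∧ w • b = a := by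
  obtain ⟨g, hga, hgb⟩ := S.two a b b a hab hab.symm
  exact ⟨g, S.invol g a (by rw [hga]; exact hab.symm) (by rw [hga, hgb]), hga, hgb⟩

/-- An element fixing two points is inverted by whatever interchanges them. -/
theorem inverts {a b : Ω} (hab : a ≠ b) {w x : G} (hwa : w • a = b) (hwb : w • b = a)
    (hxa : x • a = a) (hxb : x • b = b) : w * x * w = x⁻¹ := by
  have h := S.invol (w * x) a (by rw [mul_smul, hxa, hwa]; exact hab.symm)
    (by simp only [mul_smul, hxa, hwa, hxb, hwb])
  calc w * x * w = w * x * (w * x) * x⁻¹ := by group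
    _ = x⁻¹ := by rw [h, one_mul]

/-- Two-point stabilisers are abelian. -/
theorem two_pt_comm {a b : Ω} (hab : a ≠ b) {x y : G} (hxa : x • a = a) (hxb : x • b = b)
    (hya : y • a = a) (hyb : y • b = b) : Commute x y := by
  obtain ⟨w, hw, hwa, hwb⟩ := S.exists_swap hab
  have hinv : w⁻¹ = w := inv_eq_of_mul_eq_one_right hw
  have h1 := S.inverts hab hwa hwb (x := x * y) (by rw [mul_smul, hya, hxa])
    (by rw [mul_smul, hyb, hxb])
  have hx := S.inverts hab hwa hwb hxa hxb
  have hy := S.inverts hab hwa hwb hya hyb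
  have h2 : w * (x * y) * w = w * x * w * (w * y * w) := by
    calc w * (x * y) * w = w * x * (w * w) * y * w := by rw [hw]; group
      _ = w * x * w * (w * y * w) := by group
  rw [h1, hx, hy, mul_inv_rev] at h2
  exact (Commute.inv_inv_iff (a := y) (b := x)).1 h2 |>.symm

/-- An element fixing two points and commuting with something interchanging them has order at most two. -/
theorem sq_eq_one {a b : Ω} (hab : a ≠ b) {w x : G} (hwa : w • a = b) (hwb : w • b = a)
    (hxa : x • a = a) (hxb : x • b = b) (hc : Commute w x) : x * x = 1 := by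
  have h := S.inverts hab hwa hwb hxa hxb
  have hw := S.invol w a (by rw [hwa]; exact hab.symm) (by rw [hwa, hwb])
  rw [hc.eq, mul_assoc, hw, mul_one] at h
  exact eq_inv_iff_mul_eq_one.1 h

end Sys

end Cfsg.Agent.H70.SameFix
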