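import Cfsg.Agent.H70.SameFix.Basic

/-!
An involution in such a system fixes at most two points.
-/

set_option autoImplicit false

namespace Cfsg.Agent.H70.SameFix

open MulAction

variable {G Ω : Type*} [Group G] [Finite G] [MulAction G Ω] [Finite Ω] [FaithfulSMul G Ω]
  {i : ℕ} (S : Sys G Ω i)

include S

omit [Finite G] [FaithfulSMul G Ω] in
/-- A centralising element of order more than two has the fixed points of the involution. -/
theorem Sys.fixedBy_eq (_hi : 2 ≤ i) {t g : G} (ht : orderOf t = 2) (hg : Commute g t)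
    (hg2 : g * g ≠ 1) : fixedBy Ω g = fixedBy Ω t := by
  have hgi : (fixedBy Ω g).ncard = i := S.cent t ht g hg (fun h => hg2 (by rw [h, one_mul]))
  have hti : (fixedBy Ω t).ncard = i := S.cent t ht t (Commute.refl t)
    (fun h => by simp [h] at ht)
  refine Set.eq_of_subset_of_ncard_le (fun c hc => ?_) (by rw [hti, hgi]) (Set.toFinite _)
  by_contra hct
  have hgc : g • c = c := hc
  exact hg2 (S.sq_eq_one (a := c) (b := t • c) (fun h => hct h.symm) rfl
    (smul_smul_self (sq_of_orderOf ht) c) hgc
    (by rw [← mul_smul, hg.eq, mul_smul, hgc]) hg.symm)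

omit [FaithfulSMul G Ω] in
theorem Sys.le_two : i ≤ 2 := by
  classical
  by_contra hlt
  have hi : 3 ≤ i := by omega
  have := Fintype.ofFinite G
  have := Fintype.ofFinite Ω
  obtain ⟨t, ht⟩ := S.exists_invol
  have ht1 : t ≠ 1 := fun h => by simp [h] at ht
  have hti : (fixedBy Ω t).ncard = i := S.cent t ht t (Commute.refl t) ht1
  obtain ⟨a, ha, b, hb, c0, hc0, hab, hac, hbc⟩ :=
    (Set.two_lt_ncard (Set.toFinite _)).1 (show 2 < (fixedBy Ω t).ncard by omega)
  have hta : t • a = a := ha
  have htb : t • b = b := hb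
  have htc : t • c0 = c0 := hc0
  -- two-point stabilisers inside the fixed set centralise `t`
  have hDC : ∀ x : G, x • a = a → x • b = b → Commute x t := fun x hxa hxb =>
    S.two_pt_comm hab hxa hxb hta htb
  -- an element of `C(t)` fixing `a` fixes all fixed points of `t`
  have hkey : ∀ g : G, Commute g t → g • a = a → ∀ c : Ω, t • c = c → g • c = c := by
    intro g hg hga c hc
    by_cases hg2 : g * g = 1
    swap
    · have := S.fixedBy_eq (by omega) ht hg hg2
      show c ∈ fixedBy Ω g
      rw [this]; exact hc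
    rcases eq_or_ne a c with rfl | hne
    · exact hga
    obtain ⟨w, hw, hwa, hwc⟩ := S.exists_swap hne
    have hwt : Commute w t := by
      have h := S.inverts hne hwa hwc hta hc
      rw [inv_eq_of_mul_eq_one_right (sq_of_orderOf ht)] at h
      calc w * t = w * t * w * w := by rw [mul_assoc (w * t), hw, mul_one]
        _ = t * w := by rw [h]
    by_cases hgw : (g * w) * (g * w) = 1
    · have hcomm : g * w = w * g := by
        calc g * w = (g * w)⁻¹ := eq_inv_iff_mul_eq_one.2 hgw
          _ = w⁻¹ * g⁻¹ := mul_inv_rev g w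
          _ = w * g := by rw [inv_eq_of_mul_eq_one_right hw, inv_eq_of_mul_eq_one_right hg2]
      rw [← hwa, ← mul_smul, hcomm, mul_smul, hga]
    · have := S.fixedBy_eq (by omega) ht (hg.mul_left hwt) hgw
      have hmem : a ∈ fixedBy Ω (g * w) := by rw [this]; exact ha
      have h : (g * w) • a = a := hmem
      rw [mul_smul, hwa] at h
      exact absurd (MulAction.injective g (h.trans hga.symm)) hne.symm
  -- two-point stabilisers have exponent two
  have hD2 : ∀ x : G, x • a = a → x • b = b → x * x = 1 := by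
    intro x hxa hxb
    have hxt := hDC x hxa hxb
    have hxc : x • c0 = c0 := hkey x hxt hxa c0 htc
    obtain ⟨w1, hw1, hw1a, hw1b⟩ := S.exists_swap hab
    obtain ⟨w2, hw2, hw2a, hw2c⟩ := S.exists_swap hac
    have h1 := S.inverts hab hw1a hw1b hxa hxb
    have h2 := S.inverts hac hw2a hw2c hxa hxc
    have ht' : ∀ w : G, w * w = 1 → w * t * w = t⁻¹ → Commute w t := fun w hw h => by
      rw [inv_eq_of_mul_eq_one_right (sq_of_orderOf ht)] at h
      calc w * t = w * t * w * w := by rw [mul_assoc (w * t), hw, mul_one]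
        _ = t * w := by rw [h]
    have hgt : Commute (w1 * w2) t :=
      (ht' w1 hw1 (S.inverts hab hw1a hw1b hta htb)).mul_left
        (ht' w2 hw2 (S.inverts hac hw2a hw2c hta htc))
    have hinv2 : w2 * x⁻¹ * w2 = x := by
      have := congrArg (·⁻¹) h2
      simpa [mul_inv_rev, inv_eq_of_mul_eq_one_right hw2, mul_assoc] using this
    have hcomm : Commute (w1 * w2) x := by
      show w1 * w2 * x = x * (w1 * w2)
      calc w1 * w2 * x = w1 * (w2 * x * w2) * w2 := by
            simp only [mul_assoc, hw2, mul_one]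
        _ = w1 * x⁻¹ * w2 := by rw [h2]
        _ = (w1 * x⁻¹ * w1) * (w1 * w2) := by
            simp only [mul_assoc, ← mul_assoc w1 w1, hw1, one_mul]
        _ = x * (w1 * w2) := by
            have := congrArg (·⁻¹) h1
            simp only [mul_inv_rev, inv_eq_of_mul_eq_one_right hw1, inv_inv, ← mul_assoc] at this
            rw [this]
    set g := w1 * w2 with hgdef
    have hne : g • a ≠ a := by
      rw [hgdef, mul_smul, hw2a]
      intro h
      exact hbc (by rw [← hw1a, ← h, smul_smul_self hw1])
    by_cases hg2 : g * g = 1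
    · exact S.sq_eq_one hne.symm rfl (smul_smul_self hg2 a) hxa
        (by rw [← mul_smul, ← hcomm.eq, mul_smul, hxa]) hcomm
    · refine absurd ?_ hne
      show a ∈ fixedBy Ω g
      rw [S.fixedBy_eq (by omega) ht hgt hg2]; exact ha
  -- the centraliser is elementary abelian
  set C := Subgroup.centralizer ({t} : Set G) with hCdef
  have hCmem : ∀ g : G, g ∈ C ↔ Commute g t := fun g => Subgroup.mem_centralizer_singleton_iff
  have hC2 : ∀ g ∈ C, g * g = 1 := by
    intro g hg
    by_contra h
    have hfe := S.fixedBy_eq (by omega) ht ((hCmem g).1 hg) h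
    have hga : a ∈ fixedBy Ω g := by rw [hfe]; exact ha
    have hgb : b ∈ fixedBy Ω g := by rw [hfe]; exact hb
    exact h (hD2 g hga hgb)
  have hCab : ∀ g ∈ C, ∀ k ∈ C, Commute g k := fun g hg k hk => by
    have hinv : ∀ r ∈ C, r⁻¹ = r := fun r hr => inv_eq_of_mul_eq_one_right (hC2 r hr)
    calc g * k = (g * k)⁻¹ := (hinv _ (mul_mem hg hk)).symm
      _ = k⁻¹ * g⁻¹ := mul_inv_rev g k
      _ = k * g := by rw [hinv g hg, hinv k hk]
  set n := Nat.card Ω with hn
  set q := Nat.card C with hq
  set d := Nat.card ↥(stabilizer G a ⊓ stabilizer G b) with hd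
  have hcardC : q + i = n := S.card t ht
  have hG : Nat.card G = n * (n - 1) * d := card_two_pt S.two hab
  -- `|C| = i d`
  have hqid : q = i * d := by
    have hst : stabilizer C a = (stabilizer G a ⊓ stabilizer G b).subgroupOf C := by
      ext g
      rw [Subgroup.mem_subgroupOf, Subgroup.mem_inf]
      exact ⟨fun h => ⟨h, hkey g ((hCmem _).1 g.2) h b htb⟩, fun h => h.1⟩
    have horb : orbit C a = fixedBy Ω t := by
      ext c
      constructor
      · rintro ⟨g, rfl⟩
        show t • ((g : G) • a) = (g : G) • a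
        rw [← mul_smul, ← ((hCmem _).1 g.2).eq, mul_smul, hta]
      · intro hc
        rcases eq_or_ne a c with rfl | hne
        · exact mem_orbit_self a
        obtain ⟨w, hw, hwa, hwc⟩ := S.exists_swap hne
        have h := S.inverts hne hwa hwc hta hc
        rw [inv_eq_of_mul_eq_one_right (sq_of_orderOf ht)] at h
        refine ⟨⟨w, (hCmem w).2 ?_⟩, hwa⟩
        calc w * t = w * t * w * w := by rw [mul_assoc (w * t), hw, mul_one]
          _ = t * w := by rw [h]
    rw [hq, ← Subgroup.card_mul_index (stabilizer C a), index_stabilizer, horb, hti, hst,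
      Nat.card_congr (Subgroup.subgroupOfEquivOfLe (H := stabilizer G a ⊓ stabilizer G b) (K := C)
        (fun x hx => (hCmem x).2 (hDC x hx.1 hx.2))).toEquiv, mul_comm, hd]
  -- every two-point stabiliser has `d - 1` involutions
  have hd' : ∀ x y : Ω, x ≠ y → Nat.card ↥(stabilizer G x ⊓ stabilizer G y) = d := fun x y hxy => by
    have h := card_two_pt S.two hxy
    rw [hG] at h
    exact (Nat.eq_of_mul_eq_mul_left (Nat.mul_pos (by omega) (by omega)) h).symm
  have hD2' : ∀ x y : Ω, x ≠ y → ∀ g : G, g • x = x → g • y = y → g * g = 1 := by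
    intro x y hxy g hgx hgy
    obtain ⟨k, hkx, hky⟩ := S.two x y a b hxy hab
    have hx' : k⁻¹ • a = x := inv_smul_eq_iff.2 hkx.symm
    have hy' : k⁻¹ • b = y := inv_smul_eq_iff.2 hky.symm
    have h := hD2 (k * g * k⁻¹) (by rw [mul_smul, mul_smul, hx', hgx, hkx])
      (by rw [mul_smul, mul_smul, hy', hgy, hky])
    have h' : k * (g * g) * k⁻¹ = 1 := by rw [← h]; group
    exact conj_eq_one_iff.1 h'
  let K : Finset G := Finset.univ.filter fun u => orderOf u = 2
  have hKmem : ∀ {u : G}, u ∈ K ↔ orderOf u = 2 := fun {u} => by simp [K]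
  have hKcard : K.card * q = Nat.card G := by
    rw [← card_conjugates t, ← Set.ncard_coe_finset]
    congr 2
    ext u
    rw [Finset.mem_coe, hKmem]
    refine ⟨fun hu => isConj_iff.2 (S.conj t u ht hu), fun hu => ?_⟩
    obtain ⟨g, rfl⟩ := isConj_iff.1 hu
    rw [← ht]; exact (MulAut.conj g).orderOf_eq t
  let R : G → Ω × Ω → Prop := fun u p => u • p.1 = p.1 ∧ u • p.2 = p.2
  have hcount := Finset.sum_card_bipartiteAbove_eq_sum_card_bipartiteBelow (r := R)
    (s := K) (t := (Finset.univ : Finset Ω).offDiag)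
  have hl : ∀ u ∈ K, (Finset.bipartiteAbove R (Finset.univ : Finset Ω).offDiag u).card =
      i * (i - 1) := by
    intro u hu
    have hui : (fixedBy Ω u).ncard = i := S.cent u (hKmem.1 hu) u (Commute.refl u)
      (fun h => by simp [h] at hu; simp [K] at hu)
    have : Finset.bipartiteAbove R (Finset.univ : Finset Ω).offDiag u =
        (Finset.univ.filter fun x : Ω => u • x = x).offDiag := by
      ext p
      simp [Finset.bipartiteAbove, R, Finset.mem_offDiag]
      tauto
    have hc : (Finset.univ.filter fun x : Ω => u • x = x).card = i := by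
      rw [← hui, ← Set.ncard_coe_finset]
      congr 1
      ext x
      simp
    rw [this, Finset.offDiag_card, hc, Nat.mul_sub_one]
  have hr : ∀ p ∈ (Finset.univ : Finset Ω).offDiag,
      (Finset.bipartiteBelow R K p).card = d - 1 := by
    rintro ⟨x, y⟩ hp
    have hxy : x ≠ y := (Finset.mem_offDiag.1 hp).2.2
    rw [← hd' x y hxy]
    have : Finset.bipartiteBelow R K (x, y) =
        (Finset.univ.filter fun g : G => g ∈ stabilizer G x ⊓ stabilizer G y).erase 1 := by
      ext g
      simp only [Finset.bipartiteBelow, Finset.mem_filter, Finset.mem_erase, Finset.mem_univ,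
        true_and, R, Subgroup.mem_inf, mem_stabilizer_iff, hKmem]
      constructor
      · rintro ⟨h, h'⟩
        exact ⟨fun h1 => by simp [h1] at h, h'⟩
      · rintro ⟨h1, h'⟩
        exact ⟨orderOf_of_sq (hD2' x y hxy g h'.1 h'.2) h1, h'⟩
    rw [this, Finset.card_erase_of_mem (by simp), Nat.card_eq_fintype_card, Fintype.card_subtype]
  rw [Finset.sum_congr rfl hl, Finset.sum_congr rfl hr, Finset.sum_const, Finset.sum_const,
    smul_eq_mul, smul_eq_mul, Finset.offDiag_card, Finset.card_univ, ← Nat.card_eq_fintype_card,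
    ← hn, ← Nat.mul_sub_one] at hcount
  have hnpos : 0 < n * (n - 1) := Nat.mul_pos (by omega) (by omega)
  have hid : i = d := by
    have h1 : n * (n - 1) * (d - 1) * q = n * (n - 1) * (d * (i * (i - 1))) := by
      calc n * (n - 1) * (d - 1) * q = K.card * q * (i * (i - 1)) := by rw [← hcount]; ring
        _ = n * (n - 1) * (d * (i * (i - 1))) := by rw [hKcard, hG]; ring
    rw [mul_assoc (n * (n - 1))] at h1
    have h2 := Nat.eq_of_mul_eq_mul_left hnpos h1
    have hdpos : 0 < d := Nat.card_pos
    rw [hqid] at h2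
    have h3 : d * i * (d - 1) = d * i * (i - 1) := by rw [mul_comm (d - 1)] at h2; linarith
    have := Nat.eq_of_mul_eq_mul_left (Nat.mul_pos hdpos (by omega)) h3
    omega
  -- the normaliser of `C`
  have hCC : ∀ u ∈ C, u ≠ 1 → Subgroup.centralizer ({u} : Set G) = C := by
    intro u hu hu1
    have h2 := orderOf_of_sq (hC2 u hu) hu1
    refine (Subgroup.eq_of_le_of_card_ge
      (fun g hg => Subgroup.mem_centralizer_singleton_iff.2 (hCab g hg u hu).eq) ?_).symm
    have := S.card u h2
    show Nat.card (Subgroup.centralizer ({u} : Set G)) ≤ q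
    omega
  set N := Subgroup.normalizer (C : Set G) with hN
  let _ : MulAction N G := MulAction.compHom G ((ConjAct.toConjAct (G := G)).toMonoidHom.comp N.subtype)
  have hact : ∀ (g : N) (x : G), g • x = (g : G) * x * (g : G)⁻¹ := fun g x => rfl
  have horbN : orbit N t = (C : Set G) \ {1} := by
    ext u
    constructor
    · rintro ⟨g, rfl⟩
      show g • t ∈ (C : Set G) \ {1}
      rw [hact]
      exact ⟨(Subgroup.mem_normalizer_iff.1 g.2 t).1 ((hCmem t).2 (Commute.refl t)),
        fun h => ht1 (conj_eq_one_iff.1 h)⟩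
    · rintro ⟨hu, hu1⟩
      obtain ⟨g, hg⟩ := S.conj t u ht (orderOf_of_sq (hC2 u hu) hu1)
      refine ⟨⟨g, Subgroup.mem_normalizer_iff.2 fun r => ?_⟩, hg⟩
      conv_rhs => rw [← hCC u hu hu1]
      rw [Subgroup.mem_centralizer_singleton_iff, Subgroup.mem_centralizer_singleton_iff]
      constructor
      · intro h
        rw [← hg]
        have := (show Commute r t from h).map (MulAut.conj g).toMonoidHom
        simpa [commute_iff_eq] using this
      · intro h
        rw [← hg] at h
        have := (show Commute (g * r * g⁻¹) (g * t * g⁻¹) from h).map (MulAut.conj g⁻¹).toMonoidHom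
        simpa [commute_iff_eq, mul_assoc] using this
  have hstN : stabilizer N t = C.subgroupOf N := by
    ext g
    rw [Subgroup.mem_subgroupOf, mem_stabilizer_iff, hact, hCmem, mul_inv_eq_iff_eq_mul]
    rfl
  have hNcard : Nat.card N = q * (q - 1) := by
    rw [← Subgroup.card_mul_index (stabilizer N t), index_stabilizer, horbN, hstN,
      Nat.card_congr (Subgroup.subgroupOfEquivOfLe (H := C) (K := N) Subgroup.le_normalizer).toEquiv,
      Set.ncard_sdiff_singleton_of_mem C.one_mem, ← Nat.card_coe_set_eq]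
    rfl
  have hdvd := Subgroup.card_subgroup_dvd_card N
  rw [hNcard, hG, hqid, hid] at hdvd
  have hn' : n = d * (d + 1) := by rw [← hcardC, hqid, hid]; ring
  rw [hn'] at hdvd
  have hd3 : 3 ≤ d := hid ▸ hi
  clear_value d
  obtain ⟨e, rfl⟩ : ∃ e, d = e + 1 := ⟨d - 1, by omega⟩
  have h1 : (e + 1) * (e + 1) - 1 = e * (e + 2) := by
    have : (e + 1) * (e + 1) = e * (e + 2) + 1 := by ring
    omega
  have h2 : (e + 1) * (e + 1 + 1) - 1 = e * (e + 3) + 1 := by
    have : (e + 1) * (e + 1 + 1) = e * (e + 3) + 1 + 1 := by ring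
    omega
  rw [h1, h2] at hdvd
  have h3 : (e + 1) * (e + 1) * (e * (e + 2)) = ((e + 1) * (e + 1) * (e + 2)) * e := by ring
  have h4 : (e + 1) * (e + 1 + 1) * (e * (e + 3) + 1) * (e + 1) =
      ((e + 1) * (e + 1) * (e + 2)) * (e * (e + 3) + 1) := by ring
  rw [h3, h4] at hdvd
  have h5 := Nat.dvd_of_mul_dvd_mul_left (Nat.mul_pos (Nat.mul_pos (by omega) (by omega)) (by omega)) hdvd
  have h6 : e ∣ 1 := (Nat.dvd_add_right (Dvd.intro (e + 3) rfl)).1 h5
  have := Nat.dvd_one.1 h6
  omega

end Cfsg.Agent.H70.SameFix
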